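import Groth.Agent.H8Props.FinLocFree.Sheaf
import Groth.Agent.H17.PrinOmega
import Groth.Prelude.Def_FinCov

/-!
# The trace of a finite locally free quasi-coherent algebra

Sections over affine opens with finite free sections form a basis of the topology on which the algebraic trace
commutes with restriction.
-/

set_option autoImplicit false
set_option linter.style.haveILetI false

universe u

open CategoryTheory CategoryTheory.Limits AlgebraicGeometry Opposite TopologicalSpace

namespace Groth.Agent.H25FinCov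

open Groth.Agent.H8Props.FinLocFree

variable {X : Scheme.{u}}

/-- The algebra structure on sections. -/
@[reducible] def secAlg (A : RelSpec.QCAlg X) (V : X.Opens) :
    Algebra Γ(X, V) (A.presheaf.obj (op V)) :=
  (A.str.app (op V)).hom.toAlgebra

/-- Sections of a module are determined locally. -/
theorem ext_locally (M : X.Modules) {W : X.Opens} {s t : Γ(M, W)}
    (h : ∀ x ∈ W, ∃ (V : X.Opens) (hV : V ≤ W), x ∈ V ∧
      M.presheaf.map (homOfLE hV).op s = M.presheaf.map (homOfLE hV).op t) : s = t := by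
  refine TopCat.Presheaf.section_ext ⟨M.presheaf, M.isSheaf⟩ W s t fun x hx => ?_
  obtain ⟨V, hV, hxV, e⟩ := h x hx
  have e' := congrArg (M.presheaf.germ V x hxV) e
  rw [TopCat.Presheaf.germ_res_apply, TopCat.Presheaf.germ_res_apply] at e'
  exact e'

/-- Trace commutes with a base change of a finite free algebra sending a basis to a basis. -/
theorem trace_map {R R' S S' : Type u} [CommRing R] [CommRing R'] [CommRing S] [CommRing S'] [Algebra R S]
    [Algebra R' S'] {n : ℕ} (σ : R →+* R') (φ : S →+* S')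
    (hc : ∀ r, φ (algebraMap R S r) = algebraMap R' S' (σ r)) (b : Module.Basis (Fin n) R S)
    (hb : Submodule.span R' (Set.range fun i => φ (b i)) = ⊤)
    (hi : ∀ c : Fin n → R', ∑ i, c i • φ (b i) = 0 → c = 0) (a : S) :
    Algebra.trace R' S' (φ a) = σ (Algebra.trace R S a) := by
  classical
  let b' : Module.Basis (Fin n) R' S' := Module.Basis.mk
    (Fintype.linearIndependent_iff.2 fun c hc' j => congrFun (hi c hc') j) hb.ge
  have hb' : ∀ i, b' i = φ (b i) := fun i => Module.Basis.mk_apply _ _ i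
  rw [Algebra.trace_eq_matrix_trace b, Algebra.trace_eq_matrix_trace b', Matrix.trace, Matrix.trace, map_sum]
  refine Finset.sum_congr rfl fun i _ => ?_
  rw [Matrix.diag_apply, Matrix.diag_apply, Algebra.leftMulMatrix_eq_repr_mul,
    Algebra.leftMulMatrix_eq_repr_mul, hb', ← map_mul]
  conv_lhs => rw [← b.sum_repr (a * b i)]
  simp only [Algebra.smul_def, map_sum, map_mul, hc, ← hb']
  rw [← map_sum]
  simp only [← Algebra.smul_def]
  rw [map_sum, Finset.sum_apply', Finset.sum_eq_single i]
  · simp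
  · intro j _ hj
    simp [Finsupp.single_apply, hj]
  · simp

/-- Bases restrict to standard opens of affines. -/
theorem basis_basicOpen (M : X.Modules) (hM : Coh.IsQCoh M) {U : X.Opens} (hU : IsAffineOpen U)
    {n : ℕ} (b : Module.Basis (Fin n) Γ(X, U) Γ(M, U)) (g : Γ(X, U)) :
    Submodule.span Γ(X, X.basicOpen g)
        (Set.range fun j => M.presheaf.map (homOfLE (X.basicOpen_le g)).op (b j)) = ⊤ ∧
      ∀ c : Fin n → Γ(X, X.basicOpen g),
        ∑ j, c j • M.presheaf.map (homOfLE (X.basicOpen_le g)).op (b j) = 0 → c = 0 := by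
  have h1 : X.basicOpen g ≤ X.basicOpen (1 : Γ(X, U)) := by
    rw [Scheme.basicOpen_one]; exact X.basicOpen_le g
  have hs : H29Fitt.SpansUpTo (Submonoid.powers (1 : Γ(X, U))) (fun j => b j) := fun y =>
    ⟨1, one_mem _, by rw [one_smul, ← b.sum_repr y]; exact Submodule.sum_mem _ fun j _ =>
      Submodule.smul_mem _ _ (Submodule.subset_span ⟨j, rfl⟩)⟩
  have hi : IndepUpTo (Submonoid.powers (1 : Γ(X, U))) (fun j => b j) := fun c hc j =>
    ⟨1, one_mem _, by rw [one_mul]; exact Fintype.linearIndependent_iff.1 b.linearIndependent c hc j⟩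
  exact ⟨H29Fitt.span_basicOpen_of_spansUpTo M hM hU hs h1,
    fun c hc => indep_basicOpen M hM hU hi h1 c hc⟩

variable (A : RelSpec.QCAlg X)

/-- An affine open with finite free sections. -/
def IsGood (V : X.Opens) : Prop :=
  IsAffineOpen V ∧ letI := secAlg A V
    Module.Free Γ(X, V) (A.presheaf.obj (op V)) ∧ Module.Finite Γ(X, V) (A.presheaf.obj (op V))

theorem exists_good (hA : FlatMod.IsFinLocFree A.toModule) (W : X.Opens) (x : X) (hx : x ∈ W) :
    ∃ V, IsGood A V ∧ x ∈ V ∧ V ≤ W := by
  obtain ⟨U, n, hxU, ⟨e⟩⟩ := hA x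
  obtain ⟨V, hV, hxV, hle⟩ := exists_isAffineOpen_mem_and_subset (U := W ⊓ U) (x := x) ⟨hx, hxU⟩
  refine ⟨V, ⟨hV, ?_⟩, hxV, le_trans hle inf_le_left⟩
  exact free_finite_of_chart A.toModule e (le_trans hle inf_le_right)

/-- The trace on sections, as a linear map. -/
noncomputable def tr (V : X.Opens) : Γ(A.toModule, V) →ₗ[Γ(X, V)] Γ(Coh.structureModule X, V) :=
  letI := secAlg A V
  { toFun := fun a => Algebra.trace Γ(X, V) (A.presheaf.obj (op V)) a
    map_add' := fun a b => map_add (Algebra.trace Γ(X, V) (A.presheaf.obj (op V))) a b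
    map_smul' := fun r a => (Algebra.trace Γ(X, V) (A.presheaf.obj (op V))).map_smul r a }

theorem res_str {U V : X.Opens} (h : V ≤ U) (r : Γ(X, U)) :
    (A.presheaf.map (homOfLE h).op) ((A.str.app (op U)) r) =
      (A.str.app (op V)) (X.presheaf.map (homOfLE h).op r) :=
  (congr($(A.str.naturality (homOfLE h).op) r)).symm

theorem tr_basicOpen (hA : FlatMod.IsFinLocFree A.toModule) {U : X.Opens} (h : IsGood A U)
    (g : Γ(X, U)) (a : Γ(A.toModule, U)) :
    tr A (X.basicOpen g) (A.toModule.presheaf.map (homOfLE (X.basicOpen_le g)).op a) =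
      X.presheaf.map (homOfLE (X.basicOpen_le g)).op (tr A U a) := by
  classical
  letI := secAlg A U
  letI := secAlg A (X.basicOpen g)
  haveI := h.2.1
  haveI := h.2.2
  let b : Module.Basis (Fin (Fintype.card (Module.Free.ChooseBasisIndex Γ(X, U) (A.presheaf.obj (op U)))))
      Γ(X, U) (A.presheaf.obj (op U)) :=
    (Module.Free.chooseBasis Γ(X, U) (A.presheaf.obj (op U))).reindex (Fintype.equivFin _)
  obtain ⟨hs, hi⟩ := basis_basicOpen A.toModule (isQCoh_of_isFinLocFree _ hA) h.1 b g
  exact trace_map (X.presheaf.map (homOfLE (X.basicOpen_le g)).op).hom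
    (A.presheaf.map (homOfLE (X.basicOpen_le g)).op).hom (fun r => res_str A _ r) b hs hi a

theorem tr_natural (hA : FlatMod.IsFinLocFree A.toModule) {U U' : X.Opens} (h : IsGood A U)
    (h' : IsGood A U') (e : U' ≤ U) (a : Γ(A.toModule, U)) :
    tr A U' (A.toModule.presheaf.map (homOfLE e).op a) =
      (Coh.structureModule X).presheaf.map (homOfLE e).op (tr A U a) := by
  refine ext_locally (Coh.structureModule X) fun x hx => ?_
  obtain ⟨f, g, hfg, hxf⟩ := exists_basicOpen_le_affine_inter h'.1 h.1 x ⟨hx, e hx⟩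
  refine ⟨X.basicOpen f, X.basicOpen_le f, hxf, ?_⟩
  change X.presheaf.map (homOfLE (X.basicOpen_le f)).op (tr A U' _) =
    X.presheaf.map (homOfLE (X.basicOpen_le f)).op (X.presheaf.map (homOfLE e).op (tr A U a))
  rw [← tr_basicOpen A hA h' f, H10Coh.mres_mres]
  refine Eq.trans ?_ (H10Coh.rres_rres _ _ _).symm
  have key : ∀ (D : X.Opens) (_ : D = X.basicOpen g) (hD : D ≤ U),
      tr A D (A.toModule.presheaf.map (homOfLE hD).op a) = X.presheaf.map (homOfLE hD).op (tr A U a) := by
    rintro _ rfl hD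
    exact tr_basicOpen A hA h g a
  exact key _ hfg _

/-- Existence of the trace. -/
theorem exists_trace (hA : FlatMod.IsFinLocFree A.toModule) :
    ∃ τ : A.toModule ⟶ Coh.structureModule X, FinCov.IsTrace A τ := by
  obtain ⟨τ, hτ⟩ := H17.PrinOmega.exists_hom_of_basis A.toModule (Coh.structureModule X) (IsGood A)
    (exists_good A hA) (fun U _ => tr A U) (fun U U' h h' e s => tr_natural A hA h h' e s)
  exact ⟨τ, fun U hU hfree hfin a => hτ U ⟨hU, hfree, hfin⟩ a⟩

/-- The trace is determined on the good opens. -/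
theorem app_eq_tr {τ : A.toModule ⟶ Coh.structureModule X} (hτ : FinCov.IsTrace A τ) {V : X.Opens}
    (h : IsGood A V) (a : Γ(A.toModule, V)) : τ.app V a = tr A V a :=
  hτ V h.1 h.2.1 h.2.2 a

theorem trace_unique (hA : FlatMod.IsFinLocFree A.toModule) {τ τ' : A.toModule ⟶ Coh.structureModule X}
    (hτ : FinCov.IsTrace A τ) (hτ' : FinCov.IsTrace A τ') : τ = τ' := by
  refine Scheme.Modules.hom_ext _ _ fun U => ?_
  ext a
  refine ext_locally (Coh.structureModule X) fun x hx => ?_
  obtain ⟨V, hV, hxV, hle⟩ := exists_good A hA U x hx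
  refine ⟨V, hle, hxV, ?_⟩
  rw [← H17.PrinOmega.app_res, ← H17.PrinOmega.app_res, app_eq_tr A hτ hV, app_eq_tr A hτ' hV]

end Groth.Agent.H25FinCov
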