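import Groth.Agent.H25FinCov.Trace
import Groth.Agent.H22Alg.FiniteDegree
import Groth.Agent.H10Coh.BaseChange
import Groth.Agent.H10Coh.QCohOps
import Mathlib

/-!
# Covers of degree `d` through bases of the sections
-/

set_option autoImplicit false
set_option linter.style.haveILetI false

universe u

open CategoryTheory CategoryTheory.Limits AlgebraicGeometry Opposite TopologicalSpace

namespace Groth.Agent.H25FinCov

open Groth.Agent.H8Props.FinLocFree

variable {X Y : Scheme.{u}} (f : X ⟶ Y)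

theorem restrict_of_SpecMap (P : MorphismProperty Scheme.{u}) [P.RespectsIso] [IsAffineHom f] {V : Y.Opens}
    (hV : IsAffineOpen V) (h : P (Spec.map (f.app V))) : P (f ∣_ V) := by
  refine (P.arrow_mk_iso_iff (Arrow.isoMk (hV.preimage f).isoSpec hV.isoSpec ?_)).mpr h
  show (hV.preimage f).isoSpec.hom ≫ Spec.map (f.app V) = (f ∣_ V) ≫ hV.isoSpec.hom
  rw [← cancel_mono hV.fromSpec]
  simp only [Category.assoc, IsAffineOpen.isoSpec_hom_fromSpec, morphismRestrict_ι]
  rw [Scheme.Hom.app_eq_appLE, IsAffineOpen.SpecMap_appLE_fromSpec f hV (hV.preimage f),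
    IsAffineOpen.isoSpec_hom_fromSpec_assoc]

/-- An affine morphism with finite free sections of rank `d` near every point is a cover of degree `d`. -/
theorem isCover_of_basis [IsAffineHom f] (d : ℕ)
    (h : ∀ y : Y, ∃ (V : Y.Opens), IsAffineOpen V ∧ y ∈ V ∧
      letI := (f.app V).hom.toAlgebra
      Nonempty (Module.Basis (Fin d) Γ(Y, V) Γ(X, f ⁻¹ᵁ V))) : FinCov.IsCover f d := by
  choose V hV hyV hb using h
  have htop : iSup V = ⊤ := eq_top_iff.2 fun y _ => Opens.mem_iSup.2 ⟨y, hyV y⟩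
  have h3 : ∀ y, IsFinite (Spec.map (f.app (V y))) ∧ Flat (Spec.map (f.app (V y))) ∧
      LocallyOfFinitePresentation (Spec.map (f.app (V y))) := fun y => by
    letI := (f.app (V y)).hom.toAlgebra
    obtain ⟨b⟩ := hb y
    haveI := Module.Free.of_basis b
    haveI := Module.Finite.of_basis b
    haveI : Module.FinitePresentation Γ(Y, V y) Γ(X, f ⁻¹ᵁ V y) :=
      Module.finitePresentation_of_projective _ _
    refine ⟨(IsFinite.SpecMap_iff _).mpr ‹_›, Flat.SpecMap_iff.mpr ?_,
      (HasRingHomProperty.Spec_iff (P := @LocallyOfFinitePresentation)).mpr ?_⟩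
    · exact (inferInstanceAs (Module.Flat Γ(Y, V y) Γ(X, f ⁻¹ᵁ V y)))
    · exact (inferInstanceAs (Algebra.FinitePresentation Γ(Y, V y) Γ(X, f ⁻¹ᵁ V y)))
  haveI h1 : IsFinite f :=
    IsZariskiLocalAtTarget.of_iSup_eq_top (P := @IsFinite) V htop fun y => restrict_of_SpecMap f @IsFinite (hV y) (h3 y).1
  haveI h2 : Flat f :=
    IsZariskiLocalAtTarget.of_iSup_eq_top (P := @Flat) V htop fun y => restrict_of_SpecMap f @Flat (hV y) (h3 y).2.1
  haveI h4 : LocallyOfFinitePresentation f :=
    IsZariskiLocalAtTarget.of_iSup_eq_top (P := @LocallyOfFinitePresentation) V htop fun y =>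
      restrict_of_SpecMap f @LocallyOfFinitePresentation (hV y) (h3 y).2.2
  refine ⟨⟨h1, h2, h4⟩, fun y => ?_⟩
  letI := (f.app (V y)).hom.toAlgebra
  obtain ⟨b⟩ := hb y
  haveI := Module.Free.of_basis b
  haveI := Module.Finite.of_basis b
  haveI : Nontrivial Γ(Y, V y) := (Y.presheaf.germ (V y) y (hyV y)).hom.domain_nontrivial
  rw [H22Alg.FiniteDegree.finrank_eq_rankAtStalk f (hV y) ⟨y, hyV y⟩, Module.rankAtStalk_eq_finrank_of_free]
  simp [Module.finrank_eq_card_basis b]

/-- The direct image of the structure sheaf of a cover of degree `d` is locally free of rank `d`. -/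
theorem isFinLocFreeOfRank_of_isCover (d : ℕ) (h : FinCov.IsCover f d) :
    FlatMod.IsFinLocFreeOfRank d ((Scheme.Modules.pushforward f).obj (Coh.structureModule X)) := by
  obtain ⟨⟨h1, h2, h3⟩, hd⟩ := h
  haveI := h1; haveI := h2; haveI := h3
  let M := (Scheme.Modules.pushforward f).obj (Coh.structureModule X)
  haveI : (Coh.structureModule X).IsQuasicoherent := H10Coh.isQuasicoherent_unit
  have hq : Coh.IsQCoh M := H10Coh.isQuasicoherent_pushforward_of_isAffineHom f _
  have hfp : ∀ (V : Y.Opens), IsAffineOpen V →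
      Module.FinitePresentation Γ(Y, V) Γ(M, V) ∧ Module.Flat Γ(Y, V) Γ(M, V) := fun V hV => by
    have h := H22Alg.FiniteDegree.isPullback_fromSpec f hV
    haveI i1 : IsFinite (Spec.map (f.app V)) := MorphismProperty.of_isPullback h inferInstance
    haveI i2 : Flat (Spec.map (f.app V)) := MorphismProperty.of_isPullback h inferInstance
    haveI i3 : LocallyOfFinitePresentation (Spec.map (f.app V)) := MorphismProperty.of_isPullback h inferInstance
    letI := (f.app V).hom.toAlgebra
    haveI : Module.Finite Γ(Y, V) Γ(X, f ⁻¹ᵁ V) := (IsFinite.SpecMap_iff _).mp i1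
    haveI : Algebra.FinitePresentation Γ(Y, V) Γ(X, f ⁻¹ᵁ V) := (HasRingHomProperty.Spec_iff (P := @LocallyOfFinitePresentation)).mp i3
    exact ⟨Module.FinitePresentation.of_finite_of_finitePresentation (R := Γ(Y, V)) (S := Γ(X, f ⁻¹ᵁ V)),
      Flat.SpecMap_iff.mp i2⟩
  have hfin : FlatMod.IsFinLocFree M := isFinLocFree_of_sections M hq fun y => by
    obtain ⟨V, hV, hyV, -⟩ := exists_isAffineOpen_mem_and_subset (X := Y) (U := ⊤) (x := y) trivial
    exact ⟨V, hV, hyV, hfp V hV⟩
  intro y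
  obtain ⟨W, n, hyW, ⟨e⟩⟩ := hfin y
  obtain ⟨V, hV, hyV, hle⟩ := exists_isAffineOpen_mem_and_subset (U := W) (x := y) hyW
  obtain ⟨c⟩ := exists_basis_of_chart M e hle
  letI := (f.app V).hom.toAlgebra
  let c' : Module.Basis (Fin n) Γ(Y, V) Γ(X, f ⁻¹ᵁ V) := c
  haveI := Module.Free.of_basis c'
  haveI := Module.Finite.of_basis c'
  haveI : Nontrivial Γ(Y, V) := (Y.presheaf.germ V y hyV).hom.domain_nontrivial
  have hr := H22Alg.FiniteDegree.finrank_eq_rankAtStalk f hV ⟨y, hyV⟩
  rw [hd, Module.rankAtStalk_eq_finrank_of_free] at hr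
  obtain rfl : n = d := by
    have := Module.finrank_eq_card_basis c'
    simp at this hr
    omega
  exact ⟨W, hyW, ⟨e⟩⟩

/-- Charts of the direct image give bases of sections. -/
theorem isCover_of_isFinLocFreeOfRank [IsAffineHom f] (d : ℕ)
    (h : FlatMod.IsFinLocFreeOfRank d ((Scheme.Modules.pushforward f).obj (Coh.structureModule X))) :
    FinCov.IsCover f d :=
  isCover_of_basis f d fun y => by
    obtain ⟨W, hyW, ⟨e⟩⟩ := h y
    obtain ⟨V, hV, hyV, hle⟩ := exists_isAffineOpen_mem_and_subset (U := W) (x := y) hyW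
    obtain ⟨c⟩ := exists_basis_of_chart _ e hle
    exact ⟨V, hV, hyV, ⟨c⟩⟩

end Groth.Agent.H25FinCov
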