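import Groth.Agent.H25FinCov.Trace
import Groth.Agent.H10Coh.GenHom
import Groth.Agent.H10Coh.QCohOps
import Groth.Agent.H28Mero.Gen
import Groth.Agent.H10Coh.Serre

/-!
# Rank two algebras `O ⊕ L`
-/

set_option autoImplicit false
set_option linter.style.haveILetI false

universe u

open CategoryTheory CategoryTheory.Limits AlgebraicGeometry Opposite TopologicalSpace

namespace Groth.Agent.H25FinCov

open Groth.Agent.H8Props.FinLocFree Groth.Agent.H10Coh

variable {X : Scheme.{u}}

/-- An invertible module has free generators near every point. -/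
theorem exists_freeGen {L : X.Modules} (hL : PicF.IsInvertible L) (x : X) :
    ∃ (U : X.Opens) (e : Γ(L, U)), x ∈ U ∧ IsFreeGen L e := by
  obtain ⟨U, hxU, ⟨φ⟩⟩ := hL x
  let one : ∀ W : (U : Scheme.{u}).Opens, Γ(Coh.structureModule (U : Scheme.{u}), W) :=
    fun W => (1 : Γ((U : Scheme.{u}), W))
  let e₀ : Γ(L, U.ι ''ᵁ ⊤) := φ.inv.app ⊤ (one ⊤)
  have hbij : ∀ (W : (U : Scheme.{u}).Opens), Function.Bijective fun r : Γ(X, U.ι ''ᵁ W) =>
      r • L.presheaf.map (homOfLE (Scheme.Hom.image_mono U.ι (le_top : W ≤ ⊤))).op e₀ := by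
    intro W
    have hφ : Function.Bijective (φ.inv.app W) := ConcreteCategory.bijective_of_isIso _
    have h1 : φ.inv.app W (one W) =
        L.presheaf.map (homOfLE (Scheme.Hom.image_mono U.ι (le_top : W ≤ ⊤))).op e₀ := by
      have h2 : (Coh.structureModule (U : Scheme.{u})).presheaf.map (homOfLE (le_top : W ≤ ⊤)).op (one ⊤) =
          one W := map_one ((U : Scheme.{u}).presheaf.map (homOfLE (le_top : W ≤ ⊤)).op).hom
      rw [← h2]
      exact congr($(φ.inv.mapPresheaf.naturality (homOfLE (le_top : W ≤ ⊤)).op) (one ⊤))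
    refine (Function.Bijective.of_comp_iff _
      (ConcreteCategory.bijective_of_isIso (U.ι.appIso W).inv)).mp ?_
    have h3 : ∀ r : Γ((U : Scheme.{u}), W), (U.ι.appIso W).inv r •
        L.presheaf.map (homOfLE (Scheme.Hom.image_mono U.ι (le_top : W ≤ ⊤))).op e₀ = φ.inv.app W r := by
      intro r
      have h4 := Scheme.Modules.Hom.app_smul φ.inv (U := W) r (one W)
      rw [h1] at h4
      refine Eq.trans ?_ (h4.symm.trans (congrArg (φ.inv.app W) (mul_one r)))
      rfl
    exact ⟨fun a b h => hφ.1 ((h3 a).symm.trans (h.trans (h3 b))),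
      fun m => (hφ.2 m).imp fun a ha => (h3 a).trans ha⟩
  have htop : U.ι ''ᵁ ⊤ = U := by rw [Scheme.Hom.image_top_eq_opensRange, Scheme.Opens.opensRange_ι]
  refine ⟨U.ι ''ᵁ ⊤, e₀, htop.symm ▸ hxU, fun V hV => ?_⟩
  have key : ∀ (V' : X.Opens) (_ : V' = U.ι ''ᵁ (U.ι ⁻¹ᵁ V)) (h : V' ≤ U.ι ''ᵁ ⊤),
      Function.Bijective fun r : Γ(X, V') => r • L.presheaf.map (homOfLE h).op e₀ := by
    rintro _ rfl h
    exact hbij _
  refine key V ?_ hV
  rw [Scheme.Hom.image_preimage_eq_opensRange_inf, Scheme.Opens.opensRange_ι]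
  exact (inf_eq_right.2 (hV.trans htop.le)).symm

variable {L : X.Modules} {m : CohB1.tensorMod L L ⟶ Coh.structureModule X} {A : RelSpec.QCAlg X}
  {j : L ⟶ A.toModule}

/-- `O ⊕ L ≅ A`. -/
theorem isIso_desc (h : FinCov.IsDblAlg L m A j) : IsIso (biprod.desc (FinCov.strMod A) j) := by
  rw [Scheme.Modules.Hom.isIso_iff_isIso_app]
  intro V
  rw [ConcreteCategory.isIso_iff_bijective]
  let F := biprod.desc (FinCov.strMod A) j
  have hdec : ∀ z : Γ(Coh.structureModule X ⊞ L, V),
      z = (biprod.inl : Coh.structureModule X ⟶ _).app V ((biprod.fst : Coh.structureModule X ⊞ L ⟶ _).app V z) +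
        (biprod.inr : L ⟶ _).app V ((biprod.snd : Coh.structureModule X ⊞ L ⟶ _).app V z) := fun z => by
    have e := congrArg (fun φ : (Coh.structureModule X ⊞ L) ⟶ (Coh.structureModule X ⊞ L) => φ.app V z)
      (biprod.total (X := Coh.structureModule X) (Y := L))
    exact e.symm
  have hF : ∀ (r : Γ(Coh.structureModule X, V)) (l : Γ(L, V)),
      F.app V ((biprod.inl : Coh.structureModule X ⟶ _).app V r + (biprod.inr : L ⟶ _).app V l) =
        (FinCov.strMod A).app V r + j.app V l := fun r l => by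
    rw [map_add, ← ConcreteCategory.comp_apply, ← ConcreteCategory.comp_apply, ← Scheme.Modules.Hom.comp_app,
      ← Scheme.Modules.Hom.comp_app, biprod.inl_desc, biprod.inr_desc]
  constructor
  · intro z z' hz
    rw [hdec z, hdec z'] at hz ⊢
    rw [hF, hF] at hz
    obtain ⟨e1, e2⟩ := Prod.ext_iff.mp ((h.1 V).1 (a₁ := (_, _)) (a₂ := (_, _)) hz)
    rw [show (biprod.fst : Coh.structureModule X ⊞ L ⟶ _).app V z =
      (biprod.fst : Coh.structureModule X ⊞ L ⟶ _).app V z' from e1,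
      show (biprod.snd : Coh.structureModule X ⊞ L ⟶ _).app V z =
      (biprod.snd : Coh.structureModule X ⊞ L ⟶ _).app V z' from e2]
  · intro a
    obtain ⟨⟨r, l⟩, hp⟩ := (h.1 V).2 a
    exact ⟨_, (hF r l).trans hp⟩

/-- The basis `1, j e` over an open inside a generator. -/
theorem exists_dblBasis (h : FinCov.IsDblAlg L m A j) {U : X.Opens} {e : Γ(L, U)} (he : IsFreeGen L e)
    {V : X.Opens} (hV : V ≤ U) :
    letI := secAlg A V
    ∃ b : Module.Basis (Fin 2) Γ(X, V) (A.presheaf.obj (op V)),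
      b 0 = 1 ∧ b 1 = FinCov.toSec A (j.app V (L.presheaf.map (homOfLE hV).op e)) := by
  letI := secAlg A V
  let v : Fin 2 → A.presheaf.obj (op V) := ![1, FinCov.toSec A (j.app V (L.presheaf.map (homOfLE hV).op e))]
  have hlin : ∀ c : Fin 2 → Γ(X, V), ∑ i, c i • v i = (A.str.app (op V)).hom (c 0) +
      FinCov.toSec A (j.app V (c 1 • L.presheaf.map (homOfLE hV).op e)) := fun c => by
    rw [Fin.sum_univ_two, Scheme.Modules.Hom.app_smul]
    congr 1
    exact mul_one _
  have hind : LinearIndependent Γ(X, V) v := Fintype.linearIndependent_iff.2 fun c hc => by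
    have hz : FinCov.toSec A (U := op V) (j.app V 0) = 0 := map_zero (j.app V).hom
    have h0 : (c 0, c 1 • L.presheaf.map (homOfLE hV).op e) = (0, 0) := (h.1 V).1
      (a₁ := (_, _)) (a₂ := (_, _))
      (((hlin c).symm.trans hc).trans ((congrArg₂ (· + ·) (map_zero (A.str.app (op V)).hom) hz).trans (add_zero _)).symm)
    obtain ⟨e0, e1⟩ := Prod.ext_iff.mp h0
    have e1' : c 1 = 0 := (he V hV).1 (by simpa using e1)
    intro i; fin_cases i <;> assumption
  have hspan : ⊤ ≤ Submodule.span Γ(X, V) (Set.range v) := fun a _ => by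
    obtain ⟨⟨r, l⟩, hp⟩ := (h.1 V).2 a
    obtain ⟨c, rfl⟩ := (he V hV).2 l
    rw [Submodule.mem_span_range_iff_exists_fun]
    exact ⟨![r, c], (hlin ![r, c]).trans hp⟩
  refine ⟨Module.Basis.mk hind hspan, ?_, ?_⟩ <;> rw [Module.Basis.mk_apply] <;> rfl

theorem isFinLocFreeOfRank_two (h : FinCov.IsDblAlg L m A j) (hL : PicF.IsInvertible L) :
    FlatMod.IsFinLocFreeOfRank 2 A.toModule := by
  haveI := isIso_desc h
  have hq : Coh.IsQCoh A.toModule := by
    haveI : (Coh.structureModule X).IsQuasicoherent := H10Coh.isQuasicoherent_unit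
    haveI : L.IsQuasicoherent := H28Mero.isQCoh_of_isInvertible hL
    haveI := H10Coh.isQuasicoherent_biprod (Coh.structureModule X) L
    exact H10Coh.isQuasicoherent_of_iso (asIso (biprod.desc (FinCov.strMod A) j))
  have key : ∀ x : X, ∃ (V : X.Opens) (_ : IsAffineOpen V) (U : X.Opens) (e : Γ(L, U)),
      x ∈ V ∧ V ≤ U ∧ IsFreeGen L e := fun x => by
    obtain ⟨U, e, hxU, he⟩ := exists_freeGen hL x
    obtain ⟨V, hV, hxV, hle⟩ := exists_isAffineOpen_mem_and_subset (U := U) (x := x) hxU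
    exact ⟨V, hV, U, e, hxV, hle, he⟩
  have hfin : FlatMod.IsFinLocFree A.toModule := isFinLocFree_of_sections _ hq fun x => by
    obtain ⟨V, hV, U, e, hxV, hle, he⟩ := key x
    letI := secAlg A V
    obtain ⟨b, -, -⟩ := exists_dblBasis h he hle
    let b' : Module.Basis (Fin 2) Γ(X, V) Γ(A.toModule, V) := b
    haveI := Module.Free.of_basis b'
    haveI := Module.Finite.of_basis b'
    exact ⟨V, hV, hxV, Module.finitePresentation_of_projective _ _, inferInstance⟩
  intro x
  obtain ⟨W, n, hxW, ⟨i⟩⟩ := hfin x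
  obtain ⟨U, e, hxU, he⟩ := exists_freeGen hL x
  obtain ⟨V, hV, hxV, hle⟩ := exists_isAffineOpen_mem_and_subset (U := W ⊓ U) (x := x) ⟨hxW, hxU⟩
  letI := secAlg A V
  obtain ⟨b, -, -⟩ := exists_dblBasis h he (le_trans hle inf_le_right)
  obtain ⟨c⟩ := exists_basis_of_chart A.toModule i (le_trans hle inf_le_left)
  haveI : Nontrivial Γ(X, V) := (X.presheaf.germ V x hxV).hom.domain_nontrivial
  let b' : Module.Basis (Fin 2) Γ(X, V) Γ(A.toModule, V) := b
  obtain rfl : n = 2 := by
    have := (Module.finrank_eq_card_basis c).symm.trans (Module.finrank_eq_card_basis b')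
    simpa using this
  exact ⟨W, hxW, ⟨i⟩⟩

/-- The trace vanishes on `j L`. -/
theorem trace_j_eq_zero (h : FinCov.IsDblAlg L m A j) (hL : PicF.IsInvertible L)
    {τ : A.toModule ⟶ Coh.structureModule X} (hτ : FinCov.IsTrace A τ) (W : X.Opens) (l : Γ(L, W)) :
    τ.app W (j.app W l) = 0 := by
  refine ext_locally (Coh.structureModule X) fun x hx => ?_
  obtain ⟨U, e, hxU, he⟩ := exists_freeGen hL x
  obtain ⟨V, hV, hxV, hle⟩ := exists_isAffineOpen_mem_and_subset (U := W ⊓ U) (x := x) ⟨hx, hxU⟩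
  have hVW : V ≤ W := le_trans hle inf_le_left
  have hVU : V ≤ U := le_trans hle inf_le_right
  refine ⟨V, hVW, hxV, ?_⟩
  rw [← H17.PrinOmega.app_res, ← H17.PrinOmega.app_res, map_zero]
  obtain ⟨c, hc⟩ := (he V hVU).2 (L.presheaf.map (homOfLE hVW).op l)
  rw [← hc, Scheme.Modules.Hom.app_smul, Scheme.Modules.Hom.app_smul]
  letI := secAlg A V
  obtain ⟨b, hb0, hb1⟩ := exists_dblBasis h he hVU
  have hgood : IsGood A V := ⟨hV, Module.Free.of_basis b, Module.Finite.of_basis b⟩
  rw [app_eq_tr A hτ hgood]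
  have htr : Algebra.trace Γ(X, V) (A.presheaf.obj (op V)) (b 1) = 0 := by
    rw [Algebra.trace_eq_matrix_trace b, Matrix.trace, Fin.sum_univ_two, Matrix.diag_apply, Matrix.diag_apply,
      Algebra.leftMulMatrix_eq_repr_mul, Algebra.leftMulMatrix_eq_repr_mul, hb0, mul_one, b.repr_self]
    obtain ⟨t, h11⟩ : ∃ t : Γ(X, V), b 1 * b 1 = algebraMap Γ(X, V) (A.presheaf.obj (op V)) t :=
      ⟨_, by rw [hb1]; exact h.2 V _ _⟩
    rw [h11, Algebra.algebraMap_eq_smul_one, ← hb0, map_smul, b.repr_self]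
    simp [Finsupp.single_apply]
  rw [hb1] at htr
  exact (congrArg (fun z : Γ(X, V) => c * z) htr).trans (mul_zero c)

end Groth.Agent.H25FinCov
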