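import Groth.Agent.H25FinCov.Dbl
import Groth.Agent.H11Ample.Basic
import Groth.Agent.H29Blow.QCohExt
import Groth.Agent.H29Blow.QCohLoc

/-!
# The rank two algebra `O ⊕ L` attached to a pairing on an invertible module
-/

set_option autoImplicit false
set_option linter.style.haveILetI false

noncomputable section

universe u

open CategoryTheory CategoryTheory.Limits AlgebraicGeometry Opposite TopologicalSpace

namespace Groth.Agent.H25FinCov

open Groth.Agent.H10Coh

variable {X : Scheme.{u}} (L : X.Modules) (m : CohB1.tensorMod L L ⟶ Coh.structureModule X)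

/-- The pairing on sections. -/
def pr (U : X.Opens) (l l' : Γ(L, U)) : Γ(X, U) := m.app U (H11Ample.tm l l')

theorem pr_smul_left {U : X.Opens} (r : Γ(X, U)) (l l' : Γ(L, U)) : pr L m U (r • l) l' = r * pr L m U l l' := by
  rw [pr, H11Ample.tm_smul_left, Scheme.Modules.Hom.app_smul]; rfl

theorem pr_smul_right {U : X.Opens} (r : Γ(X, U)) (l l' : Γ(L, U)) : pr L m U l (r • l') = r * pr L m U l l' := by
  rw [pr, H11Ample.tm_smul_right, Scheme.Modules.Hom.app_smul]; rfl

theorem pr_add_left {U : X.Opens} (l₁ l₂ l' : Γ(L, U)) :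
    pr L m U (l₁ + l₂) l' = pr L m U l₁ l' + pr L m U l₂ l' := by
  rw [pr, H11Ample.tm_add_left, map_add]; rfl

theorem pr_add_right {U : X.Opens} (l l₁ l₂ : Γ(L, U)) :
    pr L m U l (l₁ + l₂) = pr L m U l l₁ + pr L m U l l₂ := by
  rw [pr, H11Ample.tm_add_right, map_add]; rfl

theorem pr_res {U V : X.Opens} (h : V ≤ U) (l l' : Γ(L, U)) :
    X.presheaf.map (homOfLE h).op (pr L m U l l') =
      pr L m V (L.presheaf.map (homOfLE h).op l) (L.presheaf.map (homOfLE h).op l') := by
  rw [pr, pr, ← H11Ample.tm_res]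
  exact (H17.PrinOmega.app_res m h _).symm

section

variable (hL : PicF.IsInvertible L)
include hL

theorem pr_comm {U : X.Opens} (l l' : Γ(L, U)) : pr L m U l l' = pr L m U l' l := by
  refine ext_locally (Coh.structureModule X) fun x hx => ?_
  obtain ⟨W, e, hxW, he⟩ := exists_freeGen hL x
  refine ⟨U ⊓ W, inf_le_left, ⟨hx, hxW⟩, ?_⟩
  change X.presheaf.map (homOfLE (inf_le_left : U ⊓ W ≤ U)).op _ = X.presheaf.map (homOfLE inf_le_left).op _
  rw [pr_res, pr_res]
  obtain ⟨c, hc⟩ := (he (U ⊓ W) inf_le_right).2 (L.presheaf.map (homOfLE inf_le_left).op l)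
  obtain ⟨c', hc'⟩ := (he (U ⊓ W) inf_le_right).2 (L.presheaf.map (homOfLE inf_le_left).op l')
  rw [← hc, ← hc', pr_smul_left, pr_smul_right, pr_smul_left, pr_smul_right, mul_left_comm]

theorem pr_assoc {U : X.Opens} (a b c : Γ(L, U)) : pr L m U a b • c = pr L m U b c • a := by
  refine ext_locally L fun x hx => ?_
  obtain ⟨W, e, hxW, he⟩ := exists_freeGen hL x
  refine ⟨U ⊓ W, inf_le_left, ⟨hx, hxW⟩, ?_⟩
  rw [Scheme.Modules.map_smul, Scheme.Modules.map_smul, pr_res, pr_res]
  obtain ⟨a', ha⟩ := (he (U ⊓ W) inf_le_right).2 (L.presheaf.map (homOfLE inf_le_left).op a)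
  obtain ⟨b', hb⟩ := (he (U ⊓ W) inf_le_right).2 (L.presheaf.map (homOfLE inf_le_left).op b)
  obtain ⟨c', hc⟩ := (he (U ⊓ W) inf_le_right).2 (L.presheaf.map (homOfLE inf_le_left).op c)
  rw [← ha, ← hb, ← hc, pr_smul_left, pr_smul_right, pr_smul_left, pr_smul_right, smul_smul, smul_smul]
  congr 1
  ring

end

variable (hL : PicF.IsInvertible L)

/-- Sections of `O ⊕ L`. -/
@[ext]
structure DblSec (L : X.Modules) (_ : PicF.IsInvertible L) (_ : CohB1.tensorMod L L ⟶ Coh.structureModule X)
    (U : X.Opens) where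
  /-- the function part -/
  fst : Γ(X, U)
  /-- the `L` part -/
  snd : Γ(L, U)

namespace DblSec

variable {L m hL} {U : X.Opens}

instance : Zero (DblSec L hL m U) := ⟨⟨0, 0⟩⟩
instance : One (DblSec L hL m U) := ⟨⟨1, 0⟩⟩
instance : Add (DblSec L hL m U) := ⟨fun a b => ⟨a.fst + b.fst, a.snd + b.snd⟩⟩
instance : Neg (DblSec L hL m U) := ⟨fun a => ⟨-a.fst, -a.snd⟩⟩
instance : Mul (DblSec L hL m U) :=
  ⟨fun a b => ⟨a.fst * b.fst + pr L m U a.snd b.snd, a.fst • b.snd + b.fst • a.snd⟩⟩

theorem zero_fst : (0 : DblSec L hL m U).fst = 0 := rfl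
theorem zero_snd : (0 : DblSec L hL m U).snd = 0 := rfl
theorem one_fst : (1 : DblSec L hL m U).fst = 1 := rfl
theorem one_snd : (1 : DblSec L hL m U).snd = 0 := rfl
theorem add_fst (a b : DblSec L hL m U) : (a + b).fst = a.fst + b.fst := rfl
theorem add_snd (a b : DblSec L hL m U) : (a + b).snd = a.snd + b.snd := rfl
theorem neg_fst (a : DblSec L hL m U) : (-a).fst = -a.fst := rfl
theorem neg_snd (a : DblSec L hL m U) : (-a).snd = -a.snd := rfl
theorem mul_fst (a b : DblSec L hL m U) : (a * b).fst = a.fst * b.fst + pr L m U a.snd b.snd := rfl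
theorem mul_snd (a b : DblSec L hL m U) : (a * b).snd = a.fst • b.snd + b.fst • a.snd := rfl

theorem pr_zero_left (l : Γ(L, U)) : pr L m U 0 l = 0 := by
  simpa using pr_smul_left L m (0 : Γ(X, U)) 0 l

theorem pr_zero_right (l : Γ(L, U)) : pr L m U l 0 = 0 := by
  simpa using pr_smul_right L m (0 : Γ(X, U)) l 0

instance : CommRing (DblSec L hL m U) :=
  CommRing.ofMinimalAxioms
    (fun a b c => DblSec.ext (add_assoc _ _ _) (add_assoc _ _ _))
    (fun a => DblSec.ext (zero_add _) (zero_add _))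
    (fun a => DblSec.ext (neg_add_cancel _) (neg_add_cancel _))
    (fun a b c => by
      refine DblSec.ext ?_ ?_
      · simp only [mul_fst, mul_snd, pr_add_left, pr_add_right, pr_smul_left, pr_smul_right]
        ring
      · simp only [mul_fst, mul_snd, smul_add, add_smul, smul_smul, pr_assoc L m hL a.snd b.snd c.snd,
          mul_comm c.fst a.fst, mul_comm c.fst b.fst]
        abel)
    (fun a b => by
      refine DblSec.ext ?_ (add_comm _ _)
      simp only [mul_fst, pr_comm L m hL a.snd b.snd, mul_comm a.fst b.fst])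
    (fun a => DblSec.ext (by rw [mul_fst, one_fst, one_snd, one_mul, pr_zero_left, add_zero])
      (by rw [mul_snd, one_fst, one_snd, one_smul, smul_zero, add_zero]))
    (fun a b c => by
      refine DblSec.ext ?_ ?_
      · simp only [mul_fst, add_fst, add_snd, pr_add_right]
        ring
      · simp only [mul_snd, add_fst, add_snd, smul_add, add_smul]
        abel)

/-- Restriction. -/
def res {V : X.Opens} (h : V ⟶ U) : DblSec L hL m U →+* DblSec L hL m V where
  toFun a := ⟨X.presheaf.map h.op a.fst, L.presheaf.map h.op a.snd⟩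
  map_one' := DblSec.ext (map_one (X.presheaf.map h.op).hom) (map_zero (L.presheaf.map h.op).hom)
  map_zero' := DblSec.ext (map_zero (X.presheaf.map h.op).hom) (map_zero (L.presheaf.map h.op).hom)
  map_add' a b := DblSec.ext (map_add (X.presheaf.map h.op).hom _ _) (map_add (L.presheaf.map h.op).hom _ _)
  map_mul' a b := DblSec.ext
    ((map_add (X.presheaf.map h.op).hom _ _).trans
      (congrArg₂ (· + ·) (map_mul (X.presheaf.map h.op).hom _ _) (pr_res L m h.le _ _)))
    ((map_add (L.presheaf.map h.op).hom _ _).trans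
      (congrArg₂ (· + ·) (Scheme.Modules.map_smul L _ _ _) (Scheme.Modules.map_smul L _ _ _)))

/-- Inclusion of functions. -/
def incl : Γ(X, U) →+* DblSec L hL m U where
  toFun r := ⟨r, 0⟩
  map_one' := rfl
  map_zero' := rfl
  map_add' a b := DblSec.ext rfl (add_zero _).symm
  map_mul' a b := DblSec.ext (by rw [mul_fst, pr_zero_left, add_zero])
    (by rw [mul_snd, smul_zero, smul_zero, add_zero])

theorem incl_mul (r : Γ(X, U)) (a : DblSec L hL m U) : incl r * a = ⟨r * a.fst, r • a.snd⟩ :=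
  DblSec.ext (by show r * a.fst + pr L m U 0 a.snd = _; rw [pr_zero_left, add_zero])
    (by show r • a.snd + a.fst • (0 : Γ(L, U)) = _; rw [smul_zero, add_zero])

end DblSec

/-- The presheaf of rings `O ⊕ L`. -/
def dblPresheaf : TopCat.Presheaf CommRingCat.{u} X.carrier where
  obj W := CommRingCat.of (DblSec L hL m W.unop)
  map i := CommRingCat.ofHom (DblSec.res i.unop)
  map_id W := CommRingCat.hom_ext (RingHom.ext fun a => DblSec.ext
    (ConcreteCategory.congr_hom (X.presheaf.map_id W) a.fst) (ConcreteCategory.congr_hom (L.presheaf.map_id W) a.snd))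
  map_comp i j := CommRingCat.hom_ext (RingHom.ext fun a => DblSec.ext
    (ConcreteCategory.congr_hom (X.presheaf.map_comp i j) a.fst)
    (ConcreteCategory.congr_hom (L.presheaf.map_comp i j) a.snd))

theorem dblPresheaf_isSheaf : (dblPresheaf L m hL).IsSheaf := by
  rw [TopCat.Presheaf.isSheaf_iff_isSheafUniqueGluing]
  intro ι W sf hsf
  obtain ⟨r, hr, hru⟩ := X.sheaf.existsUnique_gluing W (fun i => (sf i).fst) fun i j => congrArg DblSec.fst (hsf i j)
  obtain ⟨l, hl, hlu⟩ := TopCat.Sheaf.existsUnique_gluing ⟨L.presheaf, L.isSheaf⟩ W (fun i => (sf i).snd)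
    fun i j => congrArg DblSec.snd (hsf i j)
  exact ⟨(⟨r, l⟩ : DblSec L hL m _), fun i => DblSec.ext (hr i) (hl i), fun t ht =>
    DblSec.ext (hru _ fun i => congrArg DblSec.fst (ht i)) (hlu _ fun i => congrArg DblSec.snd (ht i))⟩

/-- The structure map. -/
def dblStr : X.presheaf ⟶ dblPresheaf L m hL where
  app W := CommRingCat.ofHom (DblSec.incl (L := L) (m := m) (hL := hL) (U := W.unop))
  naturality _ _ i := CommRingCat.hom_ext (RingHom.ext fun _ =>
    DblSec.ext rfl (map_zero (L.presheaf.map i).hom).symm)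

theorem dblPresheaf_isQC : RelSpec.IsQC (dblPresheaf L m hL) (dblStr L m hL) := by
  intro U hU r
  letI : Algebra (DblSec L hL m U) (DblSec L hL m (X.basicOpen r)) :=
    (DblSec.res (homOfLE (X.basicOpen_le r))).toAlgebra
  change IsLocalization.Away (DblSec.incl r : DblSec L hL m U) (DblSec L hL m (X.basicOpen r))
  haveI := hU.isLocalization_basicOpen r
  let D := X.basicOpen r
  let ρ : Γ(X, U) →+* Γ(X, D) := (X.presheaf.map (homOfLE (X.basicOpen_le r)).op).hom
  have hρ : algebraMap Γ(X, U) Γ(X, D) = ρ := rfl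
  have hmap : ∀ a : DblSec L hL m U, algebraMap (DblSec L hL m U) (DblSec L hL m D) a =
      ⟨ρ a.fst, L.presheaf.map (homOfLE (X.basicOpen_le r)).op a.snd⟩ := fun a => rfl
  have hq := H28Mero.isQCoh_of_isInvertible hL
  refine IsLocalization.Away.mk _ ?_ ?_ ?_
  · have hu : IsUnit (ρ r) := RingedSpace.isUnit_res_basicOpen X.toRingedSpace r
    have e : algebraMap (DblSec L hL m U) (DblSec L hL m D) (DblSec.incl r) = DblSec.incl (ρ r) :=
      (hmap _).trans (DblSec.ext rfl (map_zero (L.presheaf.map (homOfLE (X.basicOpen_le r)).op).hom))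
    rw [e]; exact hu.map DblSec.incl
  · intro a
    obtain ⟨n, l', hl'⟩ := H29Blow.exists_pow_smul_eq_res L hq hU r a.snd
    obtain ⟨k, s, hs⟩ := IsLocalization.Away.surj r a.fst
    refine ⟨k + n, ⟨r ^ n * s, r ^ k • l'⟩, ?_⟩
    rw [← map_pow, ← map_pow, hmap, hmap, mul_comm a]
    refine Eq.trans (congrArg (· * a) (DblSec.ext (y := DblSec.incl (ρ (r ^ (k + n)))) rfl
      (map_zero (L.presheaf.map (homOfLE (X.basicOpen_le r)).op).hom))) ?_
    rw [DblSec.incl_mul]
    refine DblSec.ext ?_ ?_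
    · show ρ (r ^ (k + n)) * a.fst = ρ (r ^ n * s)
      rw [map_mul ρ, ← hρ, ← hs, hρ, pow_add, map_mul, map_pow, map_pow]; ring
    · show ρ (r ^ (k + n)) • a.snd = L.presheaf.map (homOfLE (X.basicOpen_le r)).op (r ^ k • l')
      rw [Scheme.Modules.map_smul, hl', smul_smul, pow_add, map_mul]
  · intro a b hab
    rw [hmap, hmap] at hab
    obtain ⟨h1, h2⟩ := DblSec.ext_iff.mp hab
    obtain ⟨k, hk⟩ := IsLocalization.Away.exists_of_eq (S := Γ(X, D)) r h1
    obtain ⟨n, hn⟩ := H29Blow.exists_pow_smul_eq_zero L hq hU r (a.snd - b.snd) (by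
      rw [map_sub, sub_eq_zero]; exact h2)
    refine ⟨k + n, ?_⟩
    rw [← map_pow, DblSec.incl_mul, DblSec.incl_mul]
    refine DblSec.ext ?_ ?_
    · show r ^ (k + n) * a.fst = r ^ (k + n) * b.fst
      rw [pow_add, mul_comm (r ^ k), mul_assoc, hk, mul_assoc]
    · show r ^ (k + n) • a.snd = r ^ (k + n) • b.snd
      rw [← sub_eq_zero, ← smul_sub, pow_add, mul_smul, hn, smul_zero]

/-- The algebra `O ⊕ L`. -/
def dblAlg : RelSpec.QCAlg X :=
  ⟨dblPresheaf L m hL, dblPresheaf_isSheaf L m hL, dblStr L m hL, dblPresheaf_isQC L m hL⟩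

/-- The inclusion of `L`, sectionwise. -/
def dblInclHom (U : X.Opens) : Γ(L, U) →+ DblSec L hL m U :=
  AddMonoidHom.mk' (fun l => ⟨0, l⟩) fun _ _ => DblSec.ext (add_zero _).symm rfl

/-- The inclusion of `L`. -/
def dblIncl : L ⟶ (dblAlg L m hL).toModule :=
  ⟨letI := (dblAlg L m hL).moduleSect
   PresheafOfModules.homMk
    { app := fun W => AddCommGrpCat.ofHom (dblInclHom L m hL W.unop)
      naturality := fun _ _ i => by
        ext l
        exact DblSec.ext (map_zero (X.presheaf.map i).hom).symm rfl }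
    (fun W r l => (Eq.trans (DblSec.incl_mul (show Γ(X, W.unop) from r) (dblInclHom L m hL W.unop l))
      (DblSec.ext (y := dblInclHom L m hL W.unop (r • l)) (mul_zero _) rfl)).symm)⟩

theorem dblIncl_app (U : X.Opens) (l : Γ(L, U)) :
    ((dblIncl L m hL).val.app (op U)).hom l = dblInclHom L m hL U l := rfl

theorem dblAlg_isDblAlg : FinCov.IsDblAlg L m (dblAlg L m hL) (dblIncl L m hL) := by
  have key : ∀ (U : X.Opens) (r : Γ(X, U)) (l : Γ(L, U)),
      DblSec.incl r + dblInclHom L m hL U l = ⟨r, l⟩ := fun U r l =>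
    DblSec.ext (add_zero _) (zero_add _)
  refine ⟨fun U => ?_, fun U l l' => ?_⟩
  · constructor
    · rintro ⟨r, l⟩ ⟨r', l'⟩ h
      have h' : (⟨r, l⟩ : DblSec L hL m U) = ⟨r', l'⟩ := (key U r l).symm.trans (Eq.trans h (key U r' l'))
      injection h' with h1 h2
      exact Prod.ext h1 h2
    · rintro ⟨r, l⟩
      exact ⟨(r, l), key U r l⟩
  · show dblInclHom L m hL U l * dblInclHom L m hL U l' =
      DblSec.incl (pr L m U (show Γ(L, U) from l) (show Γ(L, U) from l'))
    refine DblSec.ext ?_ ?_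
    · show (0 : Γ(X, U)) * 0 + _ = _
      rw [mul_zero, zero_add]; rfl
    · show (0 : Γ(X, U)) • (show Γ(L, U) from l') + (0 : Γ(X, U)) • (show Γ(L, U) from l) = 0
      rw [zero_smul, zero_smul, add_zero]

end Groth.Agent.H25FinCov
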